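import Groth.Agent.Lib.FlatAbove.Basic
import Mathlib.RingTheory.Flat.Localization
import Mathlib.RingTheory.Localization.BaseChange
import Mathlib.RingTheory.Localization.LocalizationLocalization

/-!
# Descent of flatness at a prime
-/

set_option autoImplicit false
set_option linter.style.haveILetI false
universe u

open TensorProduct IsLocalRing

namespace GrothLib.FlatDescent8

/-- Flatness over a base at a point is insensitive to a flat base change. -/
theorem flatAt_iff_of_flat_localization {A B C M N : Type u} [CommRing A] [CommRing B] [CommRing C] [Algebra A B] [Algebra B C]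
    [Algebra A C] [IsScalarTower A B C] [AddCommGroup M] [Module B M] [Module A M]
    [IsScalarTower A B M] [AddCommGroup N] [Module C N] [Module B N] [IsScalarTower B C N] [Module A N]
    [IsScalarTower A C N] (j : M →ₗ[B] N) (hj : IsBaseChange C j) (q' : Ideal C) [q'.IsPrime]
    [Module.Flat B (Localization.AtPrime q')] :
    FlatCA.FlatAt A (q'.comap (algebraMap B C)) M ↔ FlatCA.FlatAt A q' N := by
  let q := q'.comap (algebraMap B C)
  let Bq := Localization.AtPrime q
  let Cq := Localization.AtPrime q'
  let Mq := LocalizedModule q.primeCompl M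
  let Nq := LocalizedModule q'.primeCompl N
  letI : Algebra Bq Cq := (Localization.localRingHom q q' (algebraMap B C) rfl).toAlgebra
  haveI : IsScalarTower B Bq Cq := IsScalarTower.of_algebraMap_eq fun b => by
    rw [IsScalarTower.algebraMap_apply B C Cq]
    exact (Localization.localRingHom_to_map q q' (algebraMap B C) rfl b).symm
  haveI : IsLocalHom (algebraMap Bq Cq) := Localization.isLocalHom_localRingHom q q' (algebraMap B C) rfl
  haveI : Module.Flat Bq Cq := (Module.flat_iff_of_isLocalization Bq q.primeCompl Cq).2 inferInstance
  haveI : Module.FaithfullyFlat Bq Cq := Module.FaithfullyFlat.of_flat_of_isLocalHom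
  letI : Module Bq Nq := Module.compHom Nq (algebraMap Bq Cq)
  haveI : IsScalarTower Bq Cq Nq := IsScalarTower.of_algebraMap_smul fun a x => rfl
  haveI : IsScalarTower B Cq Nq := IsScalarTower.of_algebraMap_smul fun b x => by
    rw [IsScalarTower.algebraMap_apply B C Cq, algebraMap_smul, algebraMap_smul]
  haveI : IsScalarTower B Bq Nq := IsScalarTower.of_algebraMap_smul fun b x => by
    show algebraMap Bq Cq (algebraMap B Bq b) • x = b • x
    rw [← IsScalarTower.algebraMap_apply, algebraMap_smul]
  haveI : IsScalarTower A B N := IsScalarTower.of_algebraMap_smul fun a x => by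
    rw [← algebraMap_smul C (algebraMap A B a) x, ← IsScalarTower.algebraMap_apply, algebraMap_smul]
  haveI : IsScalarTower A B Cq := inferInstance
  haveI : IsScalarTower A Bq Nq := IsScalarTower.of_algebraMap_smul fun a x => by
    rw [IsScalarTower.algebraMap_apply A B Bq, algebraMap_smul, algebraMap_smul]
  have hM : IsBaseChange Bq (LocalizedModule.mkLinearMap q.primeCompl M) :=
    (isLocalizedModule_iff_isBaseChange q.primeCompl Bq _).1 inferInstance
  have hN : IsBaseChange Cq (LocalizedModule.mkLinearMap q'.primeCompl N) :=
    (isLocalizedModule_iff_isBaseChange q'.primeCompl Cq _).1 inferInstance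
  have hc : IsBaseChange Cq (((LocalizedModule.mkLinearMap q'.primeCompl N).restrictScalars B).comp j) := hj.comp hN
  let g : M →ₗ[B] Nq := ((LocalizedModule.mkLinearMap q'.primeCompl N).restrictScalars B).comp j
  let h : Mq →ₗ[Bq] Nq := hM.lift g
  have hh : IsBaseChange Cq h := IsBaseChange.of_comp hM (h := h) (by rw [hM.lift_comp]; exact hc)
  let e : Cq ⊗[Bq] Mq ≃ₗ[A] Nq := hh.equiv.restrictScalars A
  constructor
  · intro (hf : Module.Flat A Mq)
    haveI : Module.Flat A (Cq ⊗[Bq] Mq) := GrothLib.FlatDesc.flat_tensor
    exact Module.Flat.of_linearEquiv e.symm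
  · intro (hf : Module.Flat A Nq)
    haveI : Module.Flat A (Cq ⊗[Bq] Mq) := Module.Flat.of_linearEquiv e
    exact GrothLib.FlatDesc.flat_of_flat_tensor (B := Bq) (S := Cq)

/-- Compatible primes lift to the pushout. -/
theorem exists_prime_over {R S R' S' : Type u} [CommRing R] [CommRing S] [CommRing R'] [CommRing S']
    [Algebra R S] [Algebra R R'] [Algebra S S'] [Algebra R' S'] [Algebra R S'] [IsScalarTower R S S']
    [IsScalarTower R R' S'] [Algebra.IsPushout R S R' S'] (q : Ideal S) [q.IsPrime] (p' : Ideal R') [p'.IsPrime]
    (h : q.comap (algebraMap R S) = p'.comap (algebraMap R R')) :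
    ∃ q' : Ideal S', q'.IsPrime ∧ q'.comap (algebraMap S S') = q ∧ q'.comap (algebraMap R' S') = p' := by
  let p := q.comap (algebraMap R S)
  haveI : p.IsPrime := Ideal.IsPrime.comap _
  let k := p.ResidueField
  let K := p'.ResidueField
  let L := q.ResidueField
  letI : Algebra k K := (Ideal.ResidueField.map p p' (algebraMap R R') h).toAlgebra
  letI : Algebra k L := (Ideal.ResidueField.map p q (algebraMap R S) rfl).toAlgebra
  let T := L ⊗[k] K
  haveI : Nontrivial T := Algebra.TensorProduct.nontrivial_of_algebraMap_injective_of_isDomain k L K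
    (algebraMap k L).injective (algebraMap k K).injective
  obtain ⟨P, hP⟩ := Ideal.exists_maximal T
  haveI := hP
  let iL : L →+* T := Algebra.TensorProduct.includeLeftRingHom
  let iK : K →+* T := (Algebra.TensorProduct.includeRight : K →ₐ[k] T).toRingHom
  letI : Algebra R T := ((algebraMap k T).comp (algebraMap R k)).toAlgebra
  let f : S →ₐ[R] T :=
    { iL.comp (algebraMap S L) with
      commutes' := fun r => by
        show iL (algebraMap S L (algebraMap R S r)) = algebraMap k T (algebraMap R k r)
        rw [← Ideal.ResidueField.map_algebraMap p q (algebraMap R S) rfl r]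
        rfl }
  let g : R' →ₐ[R] T :=
    { iK.comp (algebraMap R' K) with
      commutes' := fun r => by
        show iK (algebraMap R' K (algebraMap R R' r)) = algebraMap k T (algebraMap R k r)
        rw [← Ideal.ResidueField.map_algebraMap p p' (algebraMap R R') h r]
        exact (Algebra.TensorProduct.includeRight : K →ₐ[k] T).commutes _ }
  let ψ : S' →ₐ[R] T := Algebra.pushoutDesc S' f g fun _ _ => mul_comm _ _
  refine ⟨P.comap ψ.toRingHom, Ideal.IsPrime.comap _, ?_, ?_⟩
  · ext x
    show ψ (algebraMap S S' x) ∈ P ↔ x ∈ q
    rw [Algebra.pushoutDesc_left, ← Ideal.algebraMap_residueField_eq_zero (I := q)]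
    show algebraMap S L x ∈ P.comap iL ↔ _
    rw [Ideal.eq_bot_of_prime (P.comap iL)]
    exact Ideal.mem_bot
  · ext x
    show ψ (algebraMap R' S' x) ∈ P ↔ x ∈ p'
    rw [Algebra.pushoutDesc_right, ← Ideal.algebraMap_residueField_eq_zero (I := p')]
    show algebraMap R' K x ∈ P.comap iK ↔ _
    rw [Ideal.eq_bot_of_prime (P.comap iK)]
    exact Ideal.mem_bot

/-- The local ring of a pushout is flat over `S` when the base is flat at the point. -/
theorem flat_localization {R S R' S' : Type u} [CommRing R] [CommRing S] [CommRing R'] [CommRing S']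
    [Algebra R S] [Algebra R R'] [Algebra S S'] [Algebra R' S'] [Algebra R S'] [IsScalarTower R S S']
    [IsScalarTower R R' S'] [Algebra.IsPushout R S R' S'] (q' : Ideal S') [q'.IsPrime]
    [Module.Flat R (Localization.AtPrime (q'.comap (algebraMap R' S')))] :
    Module.Flat S (Localization.AtPrime q') := by
  let p' := q'.comap (algebraMap R' S')
  let A := Localization.AtPrime p'
  let N := Algebra.algebraMapSubmonoid S' p'.primeCompl
  let C := Localization N
  letI : Algebra A C := (IsLocalization.map C (algebraMap R' S')
    (show p'.primeCompl ≤ N.comap (algebraMap R' S') from fun x hx => Submonoid.mem_map_of_mem _ hx) :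
      A →+* C).toAlgebra
  haveI : IsScalarTower R' A C := IsScalarTower.of_algebraMap_eq fun x => by
    rw [RingHom.algebraMap_toAlgebra, IsLocalization.map_eq]
    exact IsScalarTower.algebraMap_apply R' S' C x
  haveI : Algebra.IsPushout R' S' A C := Algebra.isPushout_of_isLocalization p'.primeCompl A S' C
  haveI : Module.Flat S C := by
    haveI : Module.Flat S (S ⊗[R] A) := inferInstance
    exact Module.Flat.of_linearEquiv
      ((((Algebra.IsPushout.equiv R' S' A C).toLinearEquiv).restrictScalars S).symm.trans
        ((Algebra.IsPushout.cancelBaseChange R S R' S' A).restrictScalars S))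
  have hle : N ≤ q'.primeCompl := by
    rintro _ ⟨x, hx, rfl⟩
    exact hx
  letI : Algebra C (Localization.AtPrime q') := IsLocalization.localizationAlgebraOfSubmonoidLe _ _ N q'.primeCompl hle
  haveI : IsScalarTower S' C (Localization.AtPrime q') :=
    IsLocalization.localization_isScalarTower_of_submonoid_le _ _ N q'.primeCompl hle
  haveI : IsScalarTower S C (Localization.AtPrime q') := IsScalarTower.of_algebraMap_eq fun x => by
    rw [IsScalarTower.algebraMap_apply S S' (Localization.AtPrime q'), IsScalarTower.algebraMap_apply S' C (Localization.AtPrime q'),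
      ← IsScalarTower.algebraMap_apply S S' C]
  haveI : Module.Flat C (Localization.AtPrime q') :=
    haveI := IsLocalization.isLocalization_of_submonoid_le C (Localization.AtPrime q') N q'.primeCompl hle
    IsLocalization.flat _ (q'.primeCompl.map (algebraMap S' C))
  exact Module.Flat.trans S C (Localization.AtPrime q')

end GrothLib.FlatDescent8
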